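import Mathlib
import Cfsg.Agent.Lib.Helper69.BG40.Defs
import Cfsg.Agent.Lib.Helper46.BG.NarrowEA
import Cfsg.Agent.Lib.Helper23.PGroupEA
import Cfsg.Agent.Lib.Helper32.Tight
import Cfsg.Agent.S1454

/-!
# S1440 project, package PKI2a (helper80)

Rank `≥ 3`: `P` is narrow (the maximal elementary abelian subgroup `⟨x, z⟩` has order `p ^ 2`), so
by S1454 every element of the `p'`-group `K` acting faithfully on `P` has order dividing `p - 1`.
-/

set_option autoImplicit false

namespace Cfsg.Agent.Lib.Helper80.BG40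

open Cfsg

universe u

/-- The cyclic group generated by an element of order `p` is elementary abelian. -/
theorem isEA_zpowers_of_orderOf {G : Type u} [Group G] (p : ℕ) (x : G) (hx : orderOf x = p) :
    IsElementaryAbelian p (Subgroup.zpowers x) := by
  refine ⟨inferInstance, ?_⟩
  intro a ha
  obtain ⟨i, rfl⟩ := Subgroup.mem_zpowers_iff.mp ha
  rw [← zpow_natCast, ← zpow_mul, mul_comm, zpow_mul, zpow_natCast, ← hx, pow_orderOf_eq_one,
    one_zpow]

/-- Two commuting elements of prime order `p`, the first not a power of the second, generate an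
elementary abelian group of order `p ^ 2`. -/
theorem ea_sq_of_two {G : Type u} [Group G] [Finite G] (p : ℕ) (hp : p.Prime) (x z : G)
    (hx : orderOf x = p) (hz : orderOf z = p) (hc : x * z = z * x)
    (hxz : x ∉ Subgroup.zpowers z) :
    IsElementaryAbelian p (Subgroup.zpowers x ⊔ Subgroup.zpowers z) ∧
      Nat.card ↥(Subgroup.zpowers x ⊔ Subgroup.zpowers z) = p ^ 2 := by
  have hcomm : ∀ a ∈ Subgroup.zpowers x, ∀ b ∈ Subgroup.zpowers z, a * b = b * a := by
    intro a ha b hb
    obtain ⟨i, rfl⟩ := Subgroup.mem_zpowers_iff.mp ha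
    obtain ⟨j, rfl⟩ := Subgroup.mem_zpowers_iff.mp hb
    exact (Commute.zpow_zpow (show Commute x z from hc) i j)
  refine ⟨Cfsg.Agent.Lib.Helper23.isEA_sup (isEA_zpowers_of_orderOf p x hx)
    (isEA_zpowers_of_orderOf p z hz) hcomm, ?_⟩
  have hinf : Subgroup.zpowers x ⊓ Subgroup.zpowers z = ⊥ := by
    rw [eq_bot_iff]
    intro y hy
    rw [Subgroup.mem_bot]
    by_contra hy1
    have hyx : Subgroup.zpowers y ≤ Subgroup.zpowers x := Subgroup.zpowers_le.mpr hy.1
    have hyz : Subgroup.zpowers y ≤ Subgroup.zpowers z := Subgroup.zpowers_le.mpr hy.2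
    have hcy : Nat.card (Subgroup.zpowers y) = p := by
      have h1 : Nat.card (Subgroup.zpowers y) ∣ Nat.card (Subgroup.zpowers x) :=
        Subgroup.card_dvd_of_le hyx
      rw [Nat.card_zpowers x, hx] at h1
      rcases (Nat.dvd_prime hp).mp h1 with h2 | h2
      · exfalso
        rw [Nat.card_zpowers, orderOf_eq_one_iff] at h2
        exact hy1 h2
      · exact h2
    have heq : Subgroup.zpowers y = Subgroup.zpowers x := by
      apply Subgroup.eq_of_le_of_card_ge hyx
      rw [hcy, Nat.card_zpowers, hx]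
    exact hxz (hyz (heq ▸ Subgroup.mem_zpowers x))
  have hn : Subgroup.zpowers z ≤ Subgroup.normalizer ((Subgroup.zpowers x : Subgroup G) : Set G) := by
    intro b hb
    rw [Subgroup.mem_normalizer_iff]
    intro a
    constructor
    · intro ha
      have := hcomm a ha b hb
      have h3 : b * a * b⁻¹ = a := by rw [← this]; group
      rw [h3]; exact ha
    · intro ha
      have hb' : b⁻¹ ∈ Subgroup.zpowers z := inv_mem hb
      have := hcomm _ ha b hb
      have h3 : a = b * a * b⁻¹ := by
        have h4 : b * a * b⁻¹ * b = b * (b * a * b⁻¹) := this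
        have h5 : b * a = b * (b * a * b⁻¹) := by rw [← h4]; group
        exact mul_left_cancel h5
      rw [h3]; exact ha
  rw [Cfsg.Agent.Lib.Helper32.card_sup_of_le_normalizer hn hinf, Nat.card_zpowers,
    Nat.card_zpowers, hx, hz, sq]

/-- Package PKI2a of the S1440 project. -/
theorem pkI2a : Cfsg.Agent.Lib.Helper69.BG40.PKI2a.{u} := by
  intro G _ _ hG M hM p _ x D hL P hPp hPM hxP z hz hzo hzc hxz hr K hKM hKn hKcop hKf k hk
  have hpp : p.Prime := Fact.out
  have hp2 : p ≠ 2 := by
    rintro rfl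
    have h1 : orderOf x ∣ Nat.card G := orderOf_dvd_natCard x
    rw [hL.hxo] at h1
    exact (Nat.not_even_iff_odd.mpr hG.1) (even_iff_two_dvd.mpr h1)
  obtain ⟨hEea, hEcard⟩ := ea_sq_of_two p hpp x z hL.hxo hzo (hzc x hxP) hxz
  set E : Subgroup G := Subgroup.zpowers x ⊔ Subgroup.zpowers z with hE
  have hEP : E ≤ P := sup_le (Subgroup.zpowers_le.mpr hxP) (Subgroup.zpowers_le.mpr hz)
  have hxE : x ∈ E := (le_sup_left : Subgroup.zpowers x ≤ E) (Subgroup.mem_zpowers x)
  have hrange : (P.subtype).range = P := Subgroup.range_subtype P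
  have hEr : E ≤ (P.subtype).range := by rw [hrange]; exact hEP
  have hmax : ∀ B : Subgroup G, B ≤ (P.subtype).range → IsElementaryAbelian p B → E ≤ B →
      B = E := by
    intro B hB hBea hEB
    rw [hrange] at hB
    have hBD : B ≤ D := by
      refine le_trans ?_ hL.hCD
      intro b hb
      refine Subgroup.mem_inf.mpr ⟨hPM (hB hb), ?_⟩
      rw [Subgroup.mem_centralizer_iff]
      intro y hy
      rw [Set.mem_singleton_iff] at hy
      rw [hy]
      exact Cfsg.Agent.Lib.Helper23.isEA_comm hBea (hEB hxE) hb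
    have hcard : Nat.card B ≤ p ^ 2 := hL.hrk p hpp B hBD hBea
    exact (Subgroup.eq_of_le_of_card_ge hEB (hEcard ▸ hcard)).symm
  have hnarrow : IsNarrow p ↥P := by
    refine Cfsg.Agent.Lib.Helper46.BG.isNarrow_of_max_ea p hp2 hPp hr (E.comap P.subtype)
      (Cfsg.Agent.Lib.Helper46.BG.ea_comap p P.subtype (Subgroup.subtype_injective P) hEea) ?_ ?_
    · rw [Cfsg.Agent.Lib.Helper46.BG.card_comap_of_le_range P.subtype
        (Subgroup.subtype_injective P) hEr, hEcard]
    · exact Cfsg.Agent.Lib.Helper46.BG.max_ea_comap p P.subtype (Subgroup.subtype_injective P)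
        hEr hmax
  have hKtop : K ≠ ⊤ := by
    intro h
    rw [h] at hKM
    exact hM.1 (top_le_iff.mp hKM)
  have hKs : Group.IsSolvable ↥K := hG.2.2.2 K hKtop
  have hKodd : Odd (Nat.card ↥K) := Odd.of_dvd_nat hG.1 (Subgroup.card_subgroup_dvd_card K)
  have h1454 := Cfsg.Agent.S1454.result p hp2 P K hPp hnarrow hKn hKs hKodd hKf
  have hko : (orderOf k).Coprime p := by
    have h3 : orderOf k ∣ Nat.card ↥K := by
      have := orderOf_dvd_natCard (⟨k, hk⟩ : ↥K)
      rwa [Subgroup.orderOf_mk] at this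
    exact Nat.Coprime.coprime_dvd_left h3 hKcop
  have h2 := h1454.2.1 hr k hk hko
  exact orderOf_dvd_iff_pow_eq_one.mp h2

end Cfsg.Agent.Lib.Helper80.BG40
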